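import Groth.Agent.RelFlat16091.Frac
import Mathlib.AlgebraicGeometry.Morphisms.Flat

/-!
The degree zero fractions on `D₊(f)` are flat when the pieces of large degree are.
-/

set_option autoImplicit false
set_option backward.isDefEq.respectTransparency false
set_option linter.style.haveILetI false

universe u

open CategoryTheory DirectSum TopologicalSpace AlgebraicGeometry Opposite HomogeneousLocalization

noncomputable section

namespace Groth.Agent.RelFlat16091

open Groth.Agent.RelTilde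

theorem smul_one_inj {A : Type u} [CommRing A] {T : Submonoid A} {c c' : Localization T}
    (h : c • LocalizedModule.mk (1 : A) (1 : T) = c' • LocalizedModule.mk (1 : A) (1 : T)) : c = c' := by
  induction c using Localization.induction_on with
  | H p =>
    induction c' using Localization.induction_on with
    | H q =>
      rw [LocalizedModule.mk_smul_mk, LocalizedModule.mk_smul_mk, LocalizedModule.mk_eq] at h
      obtain ⟨w, hw⟩ := h
      simp only [smul_eq_mul, mul_one, Submonoid.smul_def] at hw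
      rw [Localization.mk_eq_mk_iff, Localization.r_iff_exists]
      exact ⟨w, by linear_combination hw⟩

variable {A : Type u} [CommRing A] (𝒜 : ℕ → AddSubgroup A) [GradedRing 𝒜]
/-- The inclusion of the degree zero part. -/
def inclZero : 𝒜 0 →+* A where
  toFun x := x.1
  map_one' := rfl
  map_mul' _ _ := rfl
  map_zero' := rfl
  map_add' _ _ := rfl

variable {R : Type u} [CommRing R] (ρ₀ : R →+* 𝒜 0)

/-- The degree zero localisation is flat over a ring over which the pieces of large degree are flat. -/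
theorem flat_away (d₀ : ℕ)
    (hflat : letI := ((inclZero 𝒜).comp ρ₀).toAlgebra
      ∀ i, d₀ ≤ i → Module.Flat R (Submodule.span R (𝒜 i : Set A)))
    {e : ℕ} (he : 0 < e) {f : A} (hf : f ∈ 𝒜 e) :
    ((fromZeroRingHom 𝒜 (Submonoid.powers f)).comp ρ₀).Flat := by
  letI : Algebra R A := ((inclZero 𝒜).comp ρ₀).toAlgebra
  letI : Algebra R (Away 𝒜 f) := ((fromZeroRingHom 𝒜 (Submonoid.powers f)).comp ρ₀).toAlgebra
  haveI : SetLike.GradedSMul 𝒜 𝒜 := ⟨fun {i j a m} ha hm => SetLike.mul_mem_graded ha hm⟩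
  have h0 : ∀ r : R, algebraMap R A r ∈ 𝒜 0 := fun r => (ρ₀ r).2
  let D := ProjectiveSpectrum.basicOpen 𝒜 f
  let one : GrMod.sect 𝒜 𝒜 0 (op D) :=
    fracSect 𝒜 𝒜 0 (SetLike.GradedOne.one_mem (A := 𝒜)) (SetLike.GradedOne.one_mem (A := 𝒜)) (by simp) D
      fun x h1 => x.1.isPrime.ne_top ((Ideal.eq_top_iff_one _).mpr h1)
  let ρ : Away 𝒜 f →+* GrTwist.O (𝒜 := 𝒜) (op D) := (ProjectiveSpectrum.Proj.awayToSection 𝒜 f).hom
  let φ : Away 𝒜 f →+ GrMod.sect 𝒜 𝒜 0 (op D) :=
    (LinearMap.toSpanSingleton (GrTwist.O (𝒜 := 𝒜) (op D)) _ one).toAddMonoidHom.comp ρ.toAddMonoidHom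
  have hval : ∀ (z : Away 𝒜 f) (x : D), ((φ z).1 x).1 = ((ρ z).1 x).val •
      LocalizedModule.mk (1 : A) (1 : x.1.asHomogeneousIdeal.toIdeal.primeCompl) := fun z x => rfl
  have hρ : ∀ (k : ℕ) (a : A) (ha : a ∈ 𝒜 (k • e)) (x : D) (hx : f ^ k ∉ x.1.asHomogeneousIdeal),
      ((ρ (Away.mk 𝒜 hf k a ha)).1 x).val = Localization.mk a ⟨f ^ k, hx⟩ := fun k a ha x hx => rfl
  have hinj : Function.Injective φ := by
    intro z z' h
    have h1 : ∀ x : D, ((ρ z).1 x).val = ((ρ z').1 x).val := fun x =>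
      smul_one_inj ((hval z x).symm.trans
        ((congrArg (fun s : GrMod.sect 𝒜 𝒜 0 (op D) => (s.1 x).1) h).trans (hval z' x)))
    obtain ⟨k, a, ha, rfl⟩ := Away.mk_surjective 𝒜 hf z
    obtain ⟨k', a', ha', rfl⟩ := Away.mk_surjective 𝒜 hf z'
    apply val_injective
    rw [Away.val_mk, Away.val_mk, Localization.mk_eq_mk_iff, Localization.r_iff_exists]
    have hd : f ^ k' * a - f ^ k * a' ∈ 𝒜 (k' • e + k • e) := by
      refine sub_mem (SetLike.mul_mem_graded (SetLike.pow_mem_graded _ hf) ha) ?_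
      exact add_comm (k • e) (k' • e) ▸ SetLike.mul_mem_graded (SetLike.pow_mem_graded _ hf) ha'
    obtain ⟨N, hN⟩ := exists_pow_smul_eq_zero 𝒜 𝒜 hd he hf fun x hx => by
      have hxf : x ∈ D := (ProjectiveSpectrum.mem_basicOpen 𝒜 f x).mpr hx
      have h2 := h1 ⟨x, hxf⟩
      rw [hρ k a ha ⟨x, hxf⟩ (not_mem_pow 𝒜 hx k), hρ k' a' ha' ⟨x, hxf⟩ (not_mem_pow 𝒜 hx k'),
        Localization.mk_eq_mk_iff, Localization.r_iff_exists] at h2
      obtain ⟨⟨c, hc⟩, hc'⟩ := h2
      exact ⟨c, hc, by simp only [smul_eq_mul] at hc' ⊢; linear_combination hc'⟩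
    exact ⟨⟨f ^ N, N, rfl⟩, by simp only [smul_eq_mul] at hN ⊢; linear_combination hN⟩
  have hsurj : Function.Surjective φ := fun s => by
    obtain ⟨k, i, m, hi, hm, hs⟩ := exists_frac_basicOpen 𝒜 𝒜 0 he hf s
    have hik : i = k • e := by rw [smul_eq_mul]; zify; simpa using hi
    refine ⟨Away.mk 𝒜 hf k m (hik ▸ hm), sect_ext 𝒜 𝒜 fun x => ?_⟩
    have hx := not_mem_pow 𝒜 ((ProjectiveSpectrum.mem_basicOpen 𝒜 f x.1).mp x.2) k
    rw [hval, hρ k m _ x hx, hs x hx, LocalizedModule.mk_smul_mk, smul_eq_mul, mul_one, mul_one]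
  change Module.Flat R (Away 𝒜 f)
  refine flat_of_fractions 𝒜 h0 𝒜 0 d₀ hflat he hf rfl φ ⟨hinj, hsurj⟩ fun r z x => ?_
  rw [hval, hval, show r • z = algebraMap R (Away 𝒜 f) r * z from Algebra.smul_def r z, map_mul]
  change (((ρ _).1 x) * ((ρ z).1 x)).val • _ = _
  rw [HomogeneousLocalization.val_mul, mul_smul]
  exact (congrArg (fun c => c • (((ρ z).1 x).val • LocalizedModule.mk (1 : A) (1 : x.1.asHomogeneousIdeal.toIdeal.primeCompl)))
    (show ((ρ (algebraMap R (Away 𝒜 f) r)).1 x).val = algebraMap A _ (algebraMap R A r) from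
      Localization.mk_one_eq_algebraMap _)).trans (algebraMap_smul _ _ _)

end Groth.Agent.RelFlat16091
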