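import Groth.Agent.RelTilde.Affine
import Mathlib.RingTheory.Flat.EquationalCriterion

/-!
Flatness of the homogeneous fractions on `D₊(f)` when the pieces of large degree are flat.
-/

set_option autoImplicit false
set_option backward.isDefEq.respectTransparency false

universe u

open CategoryTheory DirectSum TopologicalSpace AlgebraicGeometry Opposite

noncomputable section

namespace Groth.Agent.RelFlat16091

open Groth.Agent.RelTilde

variable {A σ : Type u} [CommRing A] [SetLike σ A] [AddSubgroupClass σ A] (𝒜 : ℕ → σ)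
  [GradedRing 𝒜]
variable {R : Type u} [CommRing R] [Algebra R A] (h0 : ∀ r : R, algebraMap R A r ∈ 𝒜 0)
variable {M τ : Type u} [AddCommGroup M] [Module A M] [Module R M] [IsScalarTower R A M]
  [SetLike τ M] [AddSubgroupClass τ M] (ℳ : ℕ → τ)
variable [DirectSum.Decomposition ℳ] [SetLike.GradedSMul 𝒜 ℳ]

include h0

omit [DirectSum.Decomposition ℳ] in
theorem mem_of_mem_span {i : ℕ} {m : M} (hm : m ∈ Submodule.span R (ℳ i : Set M)) : m ∈ ℳ i := by
  induction hm using Submodule.span_induction with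
  | mem x hx => exact hx
  | zero => exact zero_mem _
  | add x y _ _ hx hy => exact add_mem hx hy
  | smul r x _ hx =>
    rw [algebra_compatible_smul A r x]
    exact zero_add i ▸ SetLike.GradedSMul.smul_mem (h0 r) hx

/-- An `R`-module identified with the homogeneous fractions on `D₊(f)` is flat. -/
theorem flat_of_fractions (n : ℤ) (d₀ : ℕ)
    (hflat : ∀ i, d₀ ≤ i → Module.Flat R (Submodule.span R (ℳ i : Set M)))
    {e : ℕ} (he : 0 < e) {f : A} (hf : f ∈ 𝒜 e)
    {D : Opens (ProjectiveSpectrum.top 𝒜)} (hD : D = ProjectiveSpectrum.basicOpen 𝒜 f)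
    {N : Type u} [AddCommGroup N] [Module R N] (φ : N →+ GrMod.sect 𝒜 ℳ n (op D))
    (hφ : Function.Bijective φ)
    (hsmul : ∀ (r : R) (z : N) (x : D), ((φ (r • z)).1 x).1 = algebraMap R A r • ((φ z).1 x).1) :
    Module.Flat R N := by
  classical
  subst hD
  have hnot : ∀ (x : ProjectiveSpectrum.basicOpen 𝒜 f) (k : ℕ), f ^ k ∉ x.1.asHomogeneousIdeal := fun x k =>
    not_mem_pow 𝒜 ((ProjectiveSpectrum.mem_basicOpen 𝒜 f x.1).mp x.2) k
  -- `Rep z k m`: the element `z` is the fraction `m / f ^ k`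
  let Rep : N → ℕ → M → Prop := fun z k m =>
    ∀ x : ProjectiveSpectrum.basicOpen 𝒜 f, ((φ z).1 x).1 = fr 𝒜 x.1 m (f ^ k) (hnot x k)
  have hfun : ∀ {z z' : N} {k : ℕ} {m : M}, Rep z k m → Rep z' k m → z = z' := fun h h' =>
    hφ.1 (sect_ext 𝒜 ℳ fun x => (h x).trans (h' x).symm)
  have hup : ∀ {z : N} {k : ℕ} {m : M} (l : ℕ), Rep z k m → Rep z (k + l) (f ^ l • m) := fun {z k m} l h x => by
    rw [h x]
    exact fr_congr 𝒜 x.1 _ _ (by rw [smul_smul, ← pow_add])
  refine Module.Flat.iff_forall_isTrivialRelation.mpr fun {l} r z hrz => ?_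
  -- common denominator
  have hz : ∀ t, ∃ (k i : ℕ) (m : M), (i : ℤ) = k * e + n ∧ m ∈ ℳ i ∧ Rep (z t) k m := fun t => by
    obtain ⟨k, i, m, hi, hm, hs⟩ := exists_frac_basicOpen 𝒜 ℳ n he hf (φ (z t))
    exact ⟨k, i, m, hi, hm, fun x => hs x (hnot x k)⟩
  choose k i m hi hm hrep using hz
  let K := Finset.univ.sup k + d₀ + n.natAbs
  have hk : ∀ t, k t ≤ K := fun t =>
    ((Finset.le_sup (f := k) (Finset.mem_univ t)).trans (Nat.le_add_right _ _)).trans (Nat.le_add_right _ _)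
  let I : ℕ → ℕ := fun L => ((L * e : ℕ) + n).toNat
  have hI : ∀ L, K ≤ L → (I L : ℤ) = (L : ℤ) * e + n ∧ d₀ ≤ I L := fun L hL => by
    have h1 : L ≤ L * e := Nat.le_mul_of_pos_right _ he
    have h2 : (I L : ℤ) = (L : ℤ) * e + n := by
      simp only [I]
      push_cast
      have : (n.natAbs : ℤ) ≤ (L : ℤ) * e := by exact_mod_cast le_trans (by omega) h1
      omega
    refine ⟨h2, ?_⟩
    have : (d₀ : ℤ) + n.natAbs ≤ (L : ℤ) * e := by exact_mod_cast le_trans (by omega) h1
    omega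
  let m₁ : Fin l → M := fun t => f ^ (K - k t) • m t
  have hm₁ : ∀ t, m₁ t ∈ ℳ (I K) := fun t => by
    have h1 : (K - k t) * e + i t = I K := by
      have := hi t
      have := (hI K le_rfl).1
      have : ((K - k t : ℕ) : ℤ) = K - k t := Nat.cast_sub (hk t)
      zify
      linear_combination hi t - (hI K le_rfl).1 + (e : ℤ) * this
    exact h1 ▸ SetLike.GradedSMul.smul_mem (SetLike.pow_mem_graded _ hf) (hm t)
  have hrep₁ : ∀ t, Rep (z t) K (m₁ t) := fun t => by
    have := hup (K - k t) (hrep t)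
    rwa [Nat.add_sub_cancel' (hk t)] at this
  -- linear combinations
  have hlin : ∀ {L : ℕ} {p : ℕ} (c : Fin p → R) (w : Fin p → N) (v : Fin p → M),
      (∀ j, Rep (w j) L (v j)) → Rep (∑ j, c j • w j) L (∑ j, c j • v j) := fun {L p} c w v h x => by
    let mk : M →+ GrMod.LocMod 𝒜 (M := M) x.1 :=
      AddMonoidHom.mk' (fun v' => LocalizedModule.mk v' ⟨f ^ L, hnot x L⟩) fun a b => by
        rw [LocalizedModule.mk_add_mk, LocalizedModule.mk_eq]
        exact ⟨1, by simp only [one_smul, Submonoid.smul_def, Submonoid.coe_mul, mul_smul, smul_add]⟩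
    change ((φ _).1 x).1 = mk _
    rw [map_sum φ, map_sum mk]
    have e1 : ((∑ j, φ (c j • w j) : GrMod.sect 𝒜 ℳ n (op _)).1 x).1 = ∑ j, ((φ (c j • w j)).1 x).1 := by
      rw [AddSubmonoidClass.coe_finsetSum, Finset.sum_apply, AddSubmonoidClass.coe_finsetSum]
    rw [e1]
    refine Finset.sum_congr rfl fun j _ => ?_
    rw [hsmul, h j x, algebra_compatible_smul A (c j) (v j)]
    exact LocalizedModule.smul'_mk _ _ _
  -- the relation holds after multiplying by a power of `f`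
  have h0rep : Rep 0 K (∑ t, r t • m₁ t) := by
    rw [← hrz]
    exact hlin r z m₁ hrep₁
  have hsum : ∑ t, r t • m₁ t ∈ ℳ (I K) := sum_mem fun t _ =>
    mem_of_mem_span 𝒜 h0 ℳ (Submodule.smul_mem _ _ (Submodule.subset_span (hm₁ t)))
  obtain ⟨P, hP⟩ := exists_pow_smul_eq_zero 𝒜 ℳ hsum he hf fun x hx =>
    (fr_eq_zero_iff 𝒜 x (not_mem_pow 𝒜 hx K)).mp <| by
      have h1 := h0rep ⟨x, (ProjectiveSpectrum.mem_basicOpen 𝒜 f x).mpr hx⟩
      rw [map_zero φ] at h1
      exact h1.symm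
  let L := K + P
  let m₂ : Fin l → M := fun t => f ^ P • m₁ t
  have hm₂ : ∀ t, m₂ t ∈ ℳ (I L) := fun t => by
    have h1 : P * e + I K = I L := by
      zify
      rw [(hI K le_rfl).1, (hI L (Nat.le_add_right _ _)).1]
      simp only [L]
      push_cast
      ring
    exact h1 ▸ SetLike.GradedSMul.smul_mem (SetLike.pow_mem_graded _ hf) (hm₁ t)
  let Q := Submodule.span R (ℳ (I L) : Set M)
  haveI : Module.Flat R Q := hflat _ (hI L (Nat.le_add_right _ _)).2
  have hrel : ∑ t, r t • (⟨m₂ t, Submodule.subset_span (hm₂ t)⟩ : Q) = 0 := by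
    apply Subtype.ext
    rw [AddSubmonoidClass.coe_finsetSum]
    simp only [Submodule.coe_smul, ZeroMemClass.coe_zero, m₂]
    rw [← hP, Finset.smul_sum]
    exact Finset.sum_congr rfl fun t _ => (smul_comm (f ^ P) (r t) (m₁ t)).symm
  obtain ⟨q, a, y, hy, ha⟩ := Module.Flat.isTrivialRelation_of_sum_smul_eq_zero hrel
  have hw : ∀ j, ∃ w : N, Rep w L (y j : M) := fun j => by
    obtain ⟨w, hw⟩ := hφ.2 (fracSect 𝒜 ℳ n (mem_of_mem_span 𝒜 h0 ℳ (y j).2) (SetLike.pow_mem_graded L hf)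
      (by rw [(hI L (Nat.le_add_right _ _)).1, smul_eq_mul]; push_cast; ring) (ProjectiveSpectrum.basicOpen 𝒜 f)
      fun x => hnot x L)
    exact ⟨w, fun x => by rw [hw]; rfl⟩
  choose w hw using hw
  refine ⟨q, a, w, fun t => hfun (hup P (hrep₁ t)) ?_, ha⟩
  have h2 := congrArg Subtype.val (hy t)
  simp only [AddSubmonoidClass.coe_finsetSum, Submodule.coe_smul] at h2
  change Rep _ L (m₂ t)
  rw [h2]
  exact hlin (a t) w (fun j => (y j : M)) hw

end Groth.Agent.RelFlat16091
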