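import Groth.Agent.RelFlat16091.Away
import Groth.Agent.RelTilde.BaseVal
import Groth.Agent.RelTilde.Cast
import Groth.Agent.FlatModB.Basic
import Groth.Agent.S8285

/-!
Flatness of the relative Proj and of its twisting modules.
-/

set_option autoImplicit false
set_option backward.isDefEq.respectTransparency false
set_option linter.style.haveILetI false

universe u

open CategoryTheory CategoryTheory.Limits TopologicalSpace AlgebraicGeometry Opposite HomogeneousLocalization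

noncomputable section

namespace Groth.Agent.RelFlat16091

open Groth.Agent.RelTilde

variable {S P : Scheme.{u}} (𝒮 : RelProj.QCGrAlg S) (d₀ : ℕ)
  (hflat : ∀ d : ℕ, d₀ ≤ d → ∀ (U : S.Opens) (hU : IsAffineOpen U),
      letI := (𝒮.str.app (op U)).hom.toAlgebra
      Module.Flat Γ(S, U) ↥(Submodule.span Γ(S, U) (𝒮.deg U hU d : Set (𝒮.presheaf.obj (op U)))))
  (p : P ⟶ S) (ch : ∀ (U : S.Opens) (hU : IsAffineOpen U), ((p ⁻¹ᵁ U : P.Opens) : Scheme.{u}) ≅ Proj (𝒮.deg U hU))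
  (hP : RelProj.IsRelProj 𝒮 p ch)

include hflat hP

theorem flat_hom : Flat p := by
  refine IsZariskiLocalAtSource.of_openCover (P := @Flat)
    (Scheme.openCoverOfIsOpenCover P (fun V : S.affineOpens => p ⁻¹ᵁ V.1) (by
      rw [IsOpenCover, ← p.preimage_iSup, iSup_affineOpens_eq_top S, p.preimage_top])) fun V => ?_
  obtain ⟨V, hV⟩ : S.affineOpens := V
  change Flat ((p ⁻¹ᵁ V).ι ≫ p)
  rw [← hP.chart_over V hV, MorphismProperty.cancel_left_of_respectsIso @Flat, ← Category.assoc]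
  suffices Flat (Proj.toSpecZero (𝒮.deg V hV) ≫ Spec.map (𝒮.strZero V hV)) by
    haveI := this
    infer_instance
  refine IsZariskiLocalAtSource.of_openCover (P := @Flat) (Proj.affineOpenCover (𝒮.deg V hV)).openCover
    fun i => ?_
  change Flat (Proj.awayι (𝒮.deg V hV) (i.2 : 𝒮.presheaf.obj (op V)) i.2.2 i.1.2 ≫
    Proj.toSpecZero (𝒮.deg V hV) ≫ Spec.map (𝒮.strZero V hV))
  rw [Proj.awayι_toSpecZero_assoc, ← Spec.map_comp, HasRingHomProperty.Spec_iff (P := @Flat)]
  exact flat_away (𝒮.deg V hV) (𝒮.strZero V hV).hom d₀ (fun j hj => hflat j hj V hV) i.1.2 i.2.2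

set_option synthInstance.maxHeartbeats 400000 in
set_option maxHeartbeats 1000000 in
theorem flat_twist (n : ℤ) (L : P.Modules)
    (lam : ∀ (U : S.Opens) (hU : IsAffineOpen U),
      L ⟶ (Scheme.Modules.pushforward (RelProj.emb p ch U hU)).obj (GrTwist.twist (𝒮.deg U hU) n))
    (hL : RelProj.IsRelTwist 𝒮 p ch n L lam) : FlatMod.IsFlatOver p L := by
  have hT := (isRelTwist_iff 𝒮 n L lam).mp hL
  have hq : Coh.IsQCoh L := Groth.Agent.S8285.result 𝒮 p ch hP n L lam hL
  intro x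
  obtain ⟨V, hV, y, rfl⟩ := exists_affine_point (q := p) (ch := ch) x
  obtain ⟨e, f, he, hf, hfy⟩ := exists_pos_homog (𝒮.deg V hV) y
  let E := RelProj.emb p ch V hV
  let U : P.Opens := E ''ᵁ Proj.basicOpen (𝒮.deg V hV) f
  have hU : IsAffineOpen U := (ProjLib.isAffineOpen_basicOpen (𝒮.deg V hV) hf he).image_of_isOpenImmersion E
  have hUV : U ≤ p ⁻¹ᵁ V := by
    rintro _ ⟨z, -, rfl⟩
    exact mem_preimage_emb (q := p) (ch := ch) V hV z
  have hD : E ⁻¹ᵁ U = Proj.basicOpen (𝒮.deg V hV) f := E.preimage_image_eq _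
  refine (FlatModB.flat_sections_iff p L hq hU hV hUV).1 ?_ _
    ⟨y, (ProjectiveSpectrum.mem_basicOpen _ f y).mpr hfy, rfl⟩
  letI := FlatModB.secModule p L U V hUV
  letI : Algebra Γ(S, V) (𝒮.presheaf.obj (op V)) := (𝒮.str.app (op V)).hom.toAlgebra
  let φ : Γ(L, U) →+ GrMod.sect (𝒮.deg V hV) ((Datum.self 𝒮).deg V hV) n (op (E ⁻¹ᵁ U)) :=
    { toFun := fun s => (lam V hV).app U s
      map_zero' := map_zero ((lam V hV).app U).hom
      map_add' := map_add ((lam V hV).app U).hom }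
  refine flat_of_fractions (R := Γ(S, V)) (𝒮.deg V hV) (fun r => 𝒮.str_mem V hV r)
    ((Datum.self 𝒮).deg V hV) n d₀ (fun j hj => hflat j hj V hV) he hf hD φ
    (hT.bijective V hV U hUV) fun r s z => ?_
  let c : GrTwist.O (𝒜 := 𝒮.deg V hV) (op (E ⁻¹ᵁ U)) := (E.app U).hom ((p.appLE V U hUV).hom r)
  have h1 : (lam V hV).app U ((p.appLE V U hUV).hom r • s) =
      HSMul.hSMul (α := GrTwist.O (𝒜 := 𝒮.deg V hV) (op (E ⁻¹ᵁ U))) c (φ s) :=
    Scheme.Modules.Hom.app_smul (lam V hV) _ s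
  refine (congrArg (fun w : GrMod.sect (𝒮.deg V hV) ((Datum.self 𝒮).deg V hV) n (op (E ⁻¹ᵁ U)) =>
    (w.1 z).1) h1).trans ?_
  have h2 : ((((E.app U).hom ((p.appLE V U hUV).hom r) :
      GrTwist.O (𝒜 := 𝒮.deg V hV) (op (E ⁻¹ᵁ U))).1 z).val) =
      algebraMap (𝒮.presheaf.obj (op V)) _ ((𝒮.str.app (op V)).hom r) := by
    have hy : E.base z.1 ∈ p ⁻¹ᵁ V := mem_preimage_emb (q := p) (ch := ch) V hV z.1
    have h3 : (E.app U).hom ((p.appLE V U hUV).hom r) =
        ((Proj (𝒮.deg V hV)).presheaf.map (homOfLE (E.preimage_mono hUV)).op).hom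
          ((E.app (p ⁻¹ᵁ V)).hom ((p.app V).hom r)) :=
      congr($(E.naturality (homOfLE hUV).op).hom ((p.app V).hom r))
    rw [h3]
    have h4 := val_base_app (p := p) (ch := ch) hP hV le_rfl r z.1 hy
    refine h4.trans ?_
    rw [show (homOfLE (le_refl V)).op = 𝟙 (op V) from rfl, S.presheaf.map_id,
      Localization.mk_one_eq_algebraMap]
    rfl
  refine (congrArg (fun c => c • ((φ s).1 z).1) h2).trans ?_
  exact algebraMap_smul _ _ _

end Groth.Agent.RelFlat16091
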